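import Cfsg.Agent.Lib.ThreeTrans.CosetIndex.FiHat3510.Data
import Cfsg.Agent.Lib.ThreeTrans.CosetIndex.FiHat3510.Proofs

set_option autoImplicit false
set_option maxRecDepth 20000
set_option Elab.async false

/-!
Checks of the enumeration for 1687 (owner: helper28).
-/

namespace CfsgLib.ThreeTrans.CosetIndex.FiHat3510

theorem steps0 : stepsOK data.facts data.rels data.subs stepList0 3537 = true := by decide +kernel

theorem len0 : stepList0.length = 1000 := by decide +kernel

theorem steps1 : stepsOK data.facts data.rels data.subs stepList1 4537 = true := by decide +kernel

theorem len1 : stepList1.length = 1000 := by decide +kernel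

theorem steps2 : stepsOK data.facts data.rels data.subs stepList2 5537 = true := by decide +kernel

theorem len2 : stepList2.length = 1000 := by decide +kernel

theorem steps3 : stepsOK data.facts data.rels data.subs stepList3 6537 = true := by decide +kernel

theorem len3 : stepList3.length = 1000 := by decide +kernel

theorem steps4 : stepsOK data.facts data.rels data.subs stepList4 7537 = true := by decide +kernel

theorem len4 : stepList4.length = 1000 := by decide +kernel

theorem steps5 : stepsOK data.facts data.rels data.subs stepList5 8537 = true := by decide +kernel

theorem len5 : stepList5.length = 1000 := by decide +kernel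

theorem steps6 : stepsOK data.facts data.rels data.subs stepList6 9537 = true := by decide +kernel

theorem len6 : stepList6.length = 1000 := by decide +kernel

theorem steps7 : stepsOK data.facts data.rels data.subs stepList7 10537 = true := by decide +kernel

theorem len7 : stepList7.length = 1000 := by decide +kernel

theorem steps8 : stepsOK data.facts data.rels data.subs stepList8 11537 = true := by decide +kernel

theorem len8 : stepList8.length = 1000 := by decide +kernel

theorem steps9 : stepsOK data.facts data.rels data.subs stepList9 12537 = true := by decide +kernel

theorem len9 : stepList9.length = 1000 := by decide +kernel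

theorem steps10 : stepsOK data.facts data.rels data.subs stepList10 13537 = true := by decide +kernel

theorem len10 : stepList10.length = 1000 := by decide +kernel

theorem steps11 : stepsOK data.facts data.rels data.subs stepList11 14537 = true := by decide +kernel

theorem len11 : stepList11.length = 1000 := by decide +kernel

theorem steps12 : stepsOK data.facts data.rels data.subs stepList12 15537 = true := by decide +kernel

theorem len12 : stepList12.length = 1000 := by decide +kernel

theorem steps13 : stepsOK data.facts data.rels data.subs stepList13 16537 = true := by decide +kernel

theorem len13 : stepList13.length = 1000 := by decide +kernel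

theorem steps14 : stepsOK data.facts data.rels data.subs stepList14 17537 = true := by decide +kernel

theorem len14 : stepList14.length = 1000 := by decide +kernel

theorem steps15 : stepsOK data.facts data.rels data.subs stepList15 18537 = true := by decide +kernel

theorem len15 : stepList15.length = 441 := by decide +kernel

theorem finals0 : data.finalsOK finalList0 0 = true := by decide +kernel

theorem flen0 : finalList0.length = 2000 := by decide +kernel

theorem finals1 : data.finalsOK finalList1 2000 = true := by decide +kernel

theorem flen1 : finalList1.length = 2000 := by decide +kernel

theorem finals2 : data.finalsOK finalList2 4000 = true := by decide +kernel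

theorem flen2 : finalList2.length = 2000 := by decide +kernel

theorem finals3 : data.finalsOK finalList3 6000 = true := by decide +kernel

theorem flen3 : finalList3.length = 2000 := by decide +kernel

theorem finals4 : data.finalsOK finalList4 8000 = true := by decide +kernel

theorem flen4 : finalList4.length = 2000 := by decide +kernel

theorem finals5 : data.finalsOK finalList5 10000 = true := by decide +kernel

theorem flen5 : finalList5.length = 2000 := by decide +kernel

theorem finals6 : data.finalsOK finalList6 12000 = true := by decide +kernel

theorem flen6 : finalList6.length = 2000 := by decide +kernel

theorem finals7 : data.finalsOK finalList7 14000 = true := by decide +kernel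

theorem flen7 : finalList7.length = 2000 := by decide +kernel

theorem finals8 : data.finalsOK finalList8 16000 = true := by decide +kernel

theorem flen8 : finalList8.length = 2000 := by decide +kernel

theorem finals9 : data.finalsOK finalList9 18000 = true := by decide +kernel

theorem flen9 : finalList9.length = 2000 := by decide +kernel

theorem finals10 : data.finalsOK finalList10 20000 = true := by decide +kernel

theorem flen10 : finalList10.length = 2000 := by decide +kernel

theorem finals11 : data.finalsOK finalList11 22000 = true := by decide +kernel

theorem flen11 : finalList11.length = 2000 := by decide +kernel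

theorem finals12 : data.finalsOK finalList12 24000 = true := by decide +kernel

theorem flen12 : finalList12.length = 2000 := by decide +kernel

theorem finals13 : data.finalsOK finalList13 26000 = true := by decide +kernel

theorem flen13 : finalList13.length = 2000 := by decide +kernel

theorem finals14 : data.finalsOK finalList14 28000 = true := by decide +kernel

theorem flen14 : finalList14.length = 2000 := by decide +kernel

theorem finals15 : data.finalsOK finalList15 30000 = true := by decide +kernel

theorem flen15 : finalList15.length = 1590 := by decide +kernel

theorem defs_ok : forallFrom data.defOK 0 3537 = true := by decide +kernel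

theorem rows0 : forallFrom data.rowOK 0 500 = true := by decide +kernel

theorem rows1 : forallFrom data.rowOK 500 500 = true := by decide +kernel

theorem rows2 : forallFrom data.rowOK 1000 500 = true := by decide +kernel

theorem rows3 : forallFrom data.rowOK 1500 500 = true := by decide +kernel

theorem rows4 : forallFrom data.rowOK 2000 500 = true := by decide +kernel

theorem rows5 : forallFrom data.rowOK 2500 500 = true := by decide +kernel

theorem rows6 : forallFrom data.rowOK 3000 500 = true := by decide +kernel

theorem rows7 : forallFrom data.rowOK 3500 10 = true := by decide +kernel

theorem valid : data.Valid where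
  base := by decide +kernel
  defs i hi := forallFrom_elim defs_ok (Nat.zero_le i) (by simp only [data] at hi; omega)
  steps i h1 h2 := by
    simp only [data] at h1 h2
    by_cases c0 : i < 4537
    · exact stepsOK_elim steps0 i (by omega) (by rw [len0]; omega)
    by_cases c1 : i < 5537
    · exact stepsOK_elim steps1 i (by omega) (by rw [len1]; omega)
    by_cases c2 : i < 6537
    · exact stepsOK_elim steps2 i (by omega) (by rw [len2]; omega)
    by_cases c3 : i < 7537
    · exact stepsOK_elim steps3 i (by omega) (by rw [len3]; omega)
    by_cases c4 : i < 8537
    · exact stepsOK_elim steps4 i (by omega) (by rw [len4]; omega)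
    by_cases c5 : i < 9537
    · exact stepsOK_elim steps5 i (by omega) (by rw [len5]; omega)
    by_cases c6 : i < 10537
    · exact stepsOK_elim steps6 i (by omega) (by rw [len6]; omega)
    by_cases c7 : i < 11537
    · exact stepsOK_elim steps7 i (by omega) (by rw [len7]; omega)
    by_cases c8 : i < 12537
    · exact stepsOK_elim steps8 i (by omega) (by rw [len8]; omega)
    by_cases c9 : i < 13537
    · exact stepsOK_elim steps9 i (by omega) (by rw [len9]; omega)
    by_cases c10 : i < 14537
    · exact stepsOK_elim steps10 i (by omega) (by rw [len10]; omega)
    by_cases c11 : i < 15537
    · exact stepsOK_elim steps11 i (by omega) (by rw [len11]; omega)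
    by_cases c12 : i < 16537
    · exact stepsOK_elim steps12 i (by omega) (by rw [len12]; omega)
    by_cases c13 : i < 17537
    · exact stepsOK_elim steps13 i (by omega) (by rw [len13]; omega)
    by_cases c14 : i < 18537
    · exact stepsOK_elim steps14 i (by omega) (by rw [len14]; omega)
    exact stepsOK_elim steps15 i (by omega) (by rw [len15]; omega)
  rows c hc := by
    simp only [data] at hc
    by_cases c0 : c < 500
    · exact forallFrom_elim rows0 (start := 0) (by omega) (by omega)
    by_cases c1 : c < 1000
    · exact forallFrom_elim rows1 (start := 500) (by omega) (by omega)
    by_cases c2 : c < 1500
    · exact forallFrom_elim rows2 (start := 1000) (by omega) (by omega)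
    by_cases c3 : c < 2000
    · exact forallFrom_elim rows3 (start := 1500) (by omega) (by omega)
    by_cases c4 : c < 2500
    · exact forallFrom_elim rows4 (start := 2000) (by omega) (by omega)
    by_cases c5 : c < 3000
    · exact forallFrom_elim rows5 (start := 2500) (by omega) (by omega)
    by_cases c6 : c < 3500
    · exact forallFrom_elim rows6 (start := 3000) (by omega) (by omega)
    exact forallFrom_elim rows7 (start := 3500) (by omega) (by omega)
  finals i h2 := by
    simp only [data] at h2
    by_cases c0 : i < 2000
    · exact data.finalsOK_elim finals0 i (by omega) (by rw [flen0]; omega)
    by_cases c1 : i < 4000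
    · exact data.finalsOK_elim finals1 i (by omega) (by rw [flen1]; omega)
    by_cases c2 : i < 6000
    · exact data.finalsOK_elim finals2 i (by omega) (by rw [flen2]; omega)
    by_cases c3 : i < 8000
    · exact data.finalsOK_elim finals3 i (by omega) (by rw [flen3]; omega)
    by_cases c4 : i < 10000
    · exact data.finalsOK_elim finals4 i (by omega) (by rw [flen4]; omega)
    by_cases c5 : i < 12000
    · exact data.finalsOK_elim finals5 i (by omega) (by rw [flen5]; omega)
    by_cases c6 : i < 14000
    · exact data.finalsOK_elim finals6 i (by omega) (by rw [flen6]; omega)
    by_cases c7 : i < 16000
    · exact data.finalsOK_elim finals7 i (by omega) (by rw [flen7]; omega)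
    by_cases c8 : i < 18000
    · exact data.finalsOK_elim finals8 i (by omega) (by rw [flen8]; omega)
    by_cases c9 : i < 20000
    · exact data.finalsOK_elim finals9 i (by omega) (by rw [flen9]; omega)
    by_cases c10 : i < 22000
    · exact data.finalsOK_elim finals10 i (by omega) (by rw [flen10]; omega)
    by_cases c11 : i < 24000
    · exact data.finalsOK_elim finals11 i (by omega) (by rw [flen11]; omega)
    by_cases c12 : i < 26000
    · exact data.finalsOK_elim finals12 i (by omega) (by rw [flen12]; omega)
    by_cases c13 : i < 28000
    · exact data.finalsOK_elim finals13 i (by omega) (by rw [flen13]; omega)
    by_cases c14 : i < 30000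
    · exact data.finalsOK_elim finals14 i (by omega) (by rw [flen14]; omega)
    exact data.finalsOK_elim finals15 i (by omega) (by rw [flen15]; omega)
  fixes := by decide +kernel

end CfsgLib.ThreeTrans.CosetIndex.FiHat3510
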